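import Groth.Prelude.Def_SchLoc
import Mathlib

/-!
# Unramified near a point and the diagonal
-/

set_option autoImplicit false
set_option linter.style.haveILetI false
set_option backward.isDefEq.respectTransparency.types false

universe u

open CategoryTheory CategoryTheory.Limits AlgebraicGeometry

namespace UnrNhdLib

theorem isOpenImmersion_of_postcomp {A B C : Scheme.{u}} (f : A ⟶ B) (g : B ⟶ C)
    [IsOpenImmersion (pullback.diagonal g)] [IsOpenImmersion (f ≫ g)] : IsOpenImmersion f :=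
  ((MorphismProperty.hasOfPostcompProperty_iff_le_diagonal (P := @IsOpenImmersion)
    (Q := MorphismProperty.diagonal @IsOpenImmersion)).2 le_rfl).of_postcomp f g
    (inferInstanceAs (IsOpenImmersion (pullback.diagonal g))) ‹_›

theorem map_fst {X X' Y Z Z' : Scheme.{u}} (a : X' ⟶ X) (c : Z' ⟶ Z) (f : X ⟶ Y) (g : Z ⟶ Y) (f' : X' ⟶ Y)
    (g' : Z' ⟶ Y) (h₁ : f' ≫ 𝟙 Y = a ≫ f) (h₂ : g' ≫ 𝟙 Y = c ≫ g) :
    pullback.map f' g' f g a c (𝟙 Y) h₁ h₂ ≫ pullback.fst f g = pullback.fst f' g' ≫ a :=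
  pullback.lift_fst _ _ _

theorem map_snd {X X' Y Z Z' : Scheme.{u}} (a : X' ⟶ X) (c : Z' ⟶ Z) (f : X ⟶ Y) (g : Z ⟶ Y) (f' : X' ⟶ Y)
    (g' : Z' ⟶ Y) (h₁ : f' ≫ 𝟙 Y = a ≫ f) (h₂ : g' ≫ 𝟙 Y = c ≫ g) :
    pullback.map f' g' f g a c (𝟙 Y) h₁ h₂ ≫ pullback.snd f g = pullback.snd f' g' ≫ c :=
  pullback.lift_snd _ _ _

theorem isLocalIsoAt_diagonal_iff {X Y : Scheme.{u}} (f : X ⟶ Y) [LocallyOfFinitePresentation f] (x : ↥X) :
    (∃ U : X.Opens, x ∈ U ∧ FormallyUnramified (U.ι ≫ f)) ↔ SchLoc.IsLocalIsoAt (pullback.diagonal f) x := by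
  constructor
  · rintro ⟨U, hxU, hU⟩
    haveI := hU
    refine ⟨U, hxU, ?_⟩
    have h : U.ι ≫ pullback.diagonal f = pullback.diagonal (U.ι ≫ f) ≫
        pullback.map (U.ι ≫ f) (U.ι ≫ f) f f U.ι U.ι (𝟙 Y) (Category.comp_id _) (Category.comp_id _) :=
      pullback.hom_ext (by rw [Category.assoc, Category.assoc, map_fst]; simp) (by rw [Category.assoc, Category.assoc, map_snd]; simp)
    rw [h]
    infer_instance
  · rintro ⟨U, hxU, hU⟩
    refine ⟨U, hxU, ?_⟩
    haveI := hU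
    let m := pullback.map (U.ι ≫ f) (U.ι ≫ f) f f U.ι U.ι (𝟙 Y) (Category.comp_id _) (Category.comp_id _)
    haveI : IsOpenImmersion (pullback.diagonal (U.ι ≫ f) ≫ m) := by
      rw [show pullback.diagonal (U.ι ≫ f) ≫ m = U.ι ≫ pullback.diagonal f from
        pullback.hom_ext (by rw [Category.assoc, Category.assoc, map_fst]; simp) (by rw [Category.assoc, Category.assoc, map_snd]; simp)]
      infer_instance
    haveI : IsOpenImmersion (pullback.diagonal (U.ι ≫ f)) := IsOpenImmersion.of_comp _ m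
    infer_instance

theorem sections_isLocalIsoAt {X Y : Scheme.{u}} (f : X ⟶ Y) [LocallyOfFinitePresentation f] (x : ↥X)
    {U : X.Opens} (hxU : x ∈ U) [FormallyUnramified (U.ι ≫ f)] {Y' : Scheme.{u}} (g : Y' ⟶ Y)
    (s' : Y' ⟶ pullback f g) (hs : s' ≫ pullback.snd f g = 𝟙 Y') (y' : ↥Y')
    (hy : pullback.fst f g (s' y') = x) : SchLoc.IsLocalIsoAt s' y' := by
  let V : Y'.Opens := (s' ≫ pullback.fst f g) ⁻¹ᵁ U
  refine ⟨V, show pullback.fst f g (s' y') ∈ U by rw [hy]; exact hxU, ?_⟩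
  let k : (V : Scheme.{u}) ⟶ U := (s' ≫ pullback.fst f g).resLE U V le_rfl
  have hk : k ≫ U.ι = V.ι ≫ s' ≫ pullback.fst f g := Scheme.Hom.resLE_comp_ι _ _
  have hk' : k ≫ U.ι ≫ f = V.ι ≫ g := by
    rw [← Category.assoc, hk, Category.assoc, Category.assoc, pullback.condition, reassoc_of% hs]
  let σ : (V : Scheme.{u}) ⟶ pullback (U.ι ≫ f) g := pullback.lift k V.ι hk'
  let m := pullback.map (U.ι ≫ f) g f g U.ι (𝟙 Y') (𝟙 Y) (Category.comp_id _) (by simp)
  haveI : IsOpenImmersion (pullback.diagonal (pullback.snd (U.ι ≫ f) g)) :=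
    MorphismProperty.pullback_snd (P := .diagonal @IsOpenImmersion) _ _
      (inferInstanceAs (IsOpenImmersion (pullback.diagonal (U.ι ≫ f))))
  haveI : IsOpenImmersion (σ ≫ pullback.snd (U.ι ≫ f) g) := by
    rw [show σ ≫ pullback.snd (U.ι ≫ f) g = V.ι from pullback.lift_snd _ _ _]
    infer_instance
  haveI : IsOpenImmersion σ := isOpenImmersion_of_postcomp σ (pullback.snd (U.ι ≫ f) g)
  rw [show V.ι ≫ s' = σ ≫ m from pullback.hom_ext (by rw [Category.assoc, Category.assoc, map_fst, pullback.lift_fst_assoc, hk]) (by rw [Category.assoc, Category.assoc, map_snd, pullback.lift_snd_assoc, hs])]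
  infer_instance

end UnrNhdLib
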